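import Cfsg.Agent.Lib.Helper30.O8.L3Data

set_option autoImplicit false
set_option maxRecDepth 1000000
set_option maxHeartbeats 0
set_option Elab.async false

namespace Cfsg.Agent.Lib.Helper30.O8.L3

open Cfsg.Agent.Lib.Helper89.CosetCert Cfsg.Agent.Lib.Helper89.SafePres

theorem chk0 : cert.checkSteps (cert.N - 1 + cert.j0) steps0 = true := by decide +kernel

theorem chk1 : cert.checkSteps (cert.N - 1 + cert.j0 + steps0.length) steps1 = true := by decide +kernel

theorem chk2 : cert.checkSteps (cert.N - 1 + cert.j0 + steps0.length + steps1.length) steps2 = true := by decide +kernel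

theorem chk3 : cert.checkSteps (cert.N - 1 + cert.j0 + steps0.length + steps1.length + steps2.length) steps3 = true := by decide +kernel

end Cfsg.Agent.Lib.Helper30.O8.L3
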