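import Cfsg.Agent.Lib.Helper30.O8.ModBData
import Cfsg.Agent.Lib.Helper30.O8.L5Rels

set_option autoImplicit false
set_option maxRecDepth 1000000
set_option maxHeartbeats 0
set_option Elab.async false

namespace Cfsg.Agent.Lib.Helper30.O8.ModB

open Cfsg.Agent.Lib.Helper93.BigPerm Cfsg.Agent.Lib.Helper89.CosetCert Cfsg.Agent.Lib.Helper89.SafePres

theorem v_L5_3_0 : Md.relsOKs (((Cfsg.Agent.Lib.Helper30.O8.L5.srels3.map SRel.word).drop 0).take 8) = true := by decide +kernel

theorem v_L5_3_1 : Md.relsOKs (((Cfsg.Agent.Lib.Helper30.O8.L5.srels3.map SRel.word).drop 8).take 8) = true := by decide +kernel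

theorem v_L5_3_2 : Md.relsOKs (((Cfsg.Agent.Lib.Helper30.O8.L5.srels3.map SRel.word).drop 16).take 8) = true := by decide +kernel

theorem v_L5_3_3 : Md.relsOKs (((Cfsg.Agent.Lib.Helper30.O8.L5.srels3.map SRel.word).drop 24).take 8) = true := by decide +kernel

theorem v_L5_3_4 : Md.relsOKs (((Cfsg.Agent.Lib.Helper30.O8.L5.srels3.map SRel.word).drop 32).take 8) = true := by decide +kernel

theorem v_L5_3_5 : Md.relsOKs (((Cfsg.Agent.Lib.Helper30.O8.L5.srels3.map SRel.word).drop 40).take 8) = true := by decide +kernel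

theorem v_L5_3_6 : Md.relsOKs (((Cfsg.Agent.Lib.Helper30.O8.L5.srels3.map SRel.word).drop 48).take 8) = true := by decide +kernel

theorem v_L5_3_7 : Md.relsOKs (((Cfsg.Agent.Lib.Helper30.O8.L5.srels3.map SRel.word).drop 56).take 8) = true := by decide +kernel

theorem v_L5_3_8 : Md.relsOKs (((Cfsg.Agent.Lib.Helper30.O8.L5.srels3.map SRel.word).drop 64).take 8) = true := by decide +kernel

theorem v_L5_3_9 : Md.relsOKs (((Cfsg.Agent.Lib.Helper30.O8.L5.srels3.map SRel.word).drop 72).take 8) = true := by decide +kernel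

theorem v_L5_3_10 : Md.relsOKs (((Cfsg.Agent.Lib.Helper30.O8.L5.srels3.map SRel.word).drop 80).take 8) = true := by decide +kernel

theorem v_L5_3_11 : Md.relsOKs (((Cfsg.Agent.Lib.Helper30.O8.L5.srels3.map SRel.word).drop 88).take 8) = true := by decide +kernel

theorem v_L5_3_12 : Md.relsOKs (((Cfsg.Agent.Lib.Helper30.O8.L5.srels3.map SRel.word).drop 96).take 8) = true := by decide +kernel

end Cfsg.Agent.Lib.Helper30.O8.ModB
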