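import Cfsg.Agent.Lib.Helper30.O8.L2Data
import Cfsg.Agent.Lib.Helper30.O8.L3Data
import Cfsg.Agent.Lib.Helper30.O8.L4Data
import Cfsg.Agent.Lib.Helper30.O8.L5Data

/-! # S2098 (Schur multiplier of `Ω₈⁺(2)`): the safe relators used by all parts

Letters: `2 i = t_i`, `2 i + 1 = t_i⁻¹` for the seven generators `t0, …, t6` of order seven:
`⟨t0, t1⟩ = L₂(7)`, `⟨t0, …, t3⟩ = A₈ = Ω₆⁺(2)` (the stabiliser of `e₁` and `f₁`),
`⟨t0, …, t4⟩ = Sp₆(2)` (the stabiliser of `e₁ + f₁`), `t5` fixes `e₁`, `t6` maps `f₁ ↦ e₁ ↦ t5 f₁`. -/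

set_option autoImplicit false

namespace Cfsg.Agent.Lib.Helper30.O8

open Cfsg.Agent.Lib.Helper89.CosetCert Cfsg.Agent.Lib.Helper89.SafePres

/-- all conjugation relators -/
def srelsAll : List SRel := L2.srels ++ L3.srels ++ L4.srels ++ L5.srels

/-- a word for the central involution of `2.Sp₆(2)_A = ⟨t0, …, t4⟩` -/
def wza : Word := [0, 11, 0, 11]

/-- a word for the central involution of `2.Sp₆(2)_B = ⟨t0, t6⟩` -/
def wzb : Word := [0, 12, 2, 13, 0, 12, 2, 13]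

theorem wza_lt : ∀ l ∈ wza, l < 14 := by decide

theorem wzb_lt : ∀ l ∈ wzb, l < 14 := by decide

/-- for every generator a conjugation relation `W t_i W⁻¹ = t_i ^ f` with `f ≢ 1 (mod 7)` -/
theorem self_mem : ∀ i < 7, ∃ r ∈ srelsAll, r.i = i ∧ r.j = i ∧
    ¬ ((7 : ℤ) ∣ (if r.neg then -(r.f : ℤ) else (r.f : ℤ)) - 1) := by decide +kernel

end Cfsg.Agent.Lib.Helper30.O8
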