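import Cfsg.Agent.Lib.Helper30.O8.ModBVL2s0
import Cfsg.Agent.Lib.Helper30.O8.ModBVL3s0
import Cfsg.Agent.Lib.Helper30.O8.ModBVL3s1
import Cfsg.Agent.Lib.Helper30.O8.ModBVL4s0
import Cfsg.Agent.Lib.Helper30.O8.ModBVL4s1
import Cfsg.Agent.Lib.Helper30.O8.ModBVL4s2
import Cfsg.Agent.Lib.Helper30.O8.ModBVL4s3
import Cfsg.Agent.Lib.Helper30.O8.ModBVL4s4
import Cfsg.Agent.Lib.Helper30.O8.ModBVL5s0
import Cfsg.Agent.Lib.Helper30.O8.ModBVL5s1
import Cfsg.Agent.Lib.Helper30.O8.ModBVL5s2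
import Cfsg.Agent.Lib.Helper30.O8.ModBVL5s3
import Cfsg.Agent.Lib.Helper30.O8.ModBVL5s4
import Cfsg.Agent.Lib.Helper30.O8.ModBVL5s5
import Cfsg.Agent.Lib.Helper30.O8.ModBVL5s6
import Cfsg.Agent.Lib.Helper30.O8.ModBVL5s7
import Cfsg.Agent.Lib.Helper30.O8.ModBVL5s8
import Cfsg.Agent.Lib.Helper30.O8.ModBVL5s9
import Cfsg.Agent.Lib.Helper30.O8.Rels

/-!
# S2098: a permutation model of the covering group `2².Ω₈⁺(2)` on 480 points

`gm i` (`i < 7`) are permutations of `Fin 480` (the cosets of `2.Sp₆(2)_A = ⟨t0, …, t4⟩` and of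
`2.Sp₆(2)_B = ⟨t0, t6⟩` in the group presented by the safe relators) satisfying all the safe relators
`srelsAll` and `gm i ^ 7 = 1`; the words `wza`, `wzb` give two distinct central involutions.
-/

set_option autoImplicit false
set_option maxRecDepth 1000000
set_option maxHeartbeats 0
set_option Elab.async false

namespace Cfsg.Agent.Lib.Helper30.O8.ModB

open Cfsg.Agent.Lib.Helper93.BigPerm Cfsg.Agent.Lib.Helper89.TableChain2
open Cfsg.Agent.Lib.Helper89.CosetCert Cfsg.Agent.Lib.Helper89.SafePres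
open Cfsg.Agent.Lib.Helper30.O8

/-- a property holds on a list if it holds on its chunks of length `c` -/
theorem forall_mem_of_chunks {α : Type*} (l : List α) (P : α → Prop) (c m : ℕ) (hc : 0 < c)
    (hl : l.length ≤ c * m) (h : ∀ a < m, ∀ r ∈ (l.drop (c * a)).take c, P r) : ∀ r ∈ l, P r := by
  intro r hr
  obtain ⟨j, hj, rfl⟩ := List.getElem_of_mem hr
  have ha : j / c < m := Nat.div_lt_of_lt_mul (lt_of_lt_of_le hj hl)
  apply h (j / c) ha
  have h1 : c * (j / c) + j % c = j := Nat.div_add_mod j c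
  have h2 : j % c < c := Nat.mod_lt j hc
  rw [List.mem_iff_getElem]
  refine ⟨j % c, ?_, ?_⟩
  · rw [List.length_take, List.length_drop]
    omega
  · rw [List.getElem_take, List.getElem_drop]
    congr 1

/-- the generators of the model -/
noncomputable def gm (i : ℕ) : Equiv.Perm (Fin 480) := Model.gm Md_ok i

theorem gm_eq_one (i : ℕ) (h : 7 ≤ i) : gm i = 1 := by
  unfold gm Model.gm Model.perm
  rw [dif_neg (by show ¬ 2 * i < 2 * 7; omega)]
  rfl

theorem Md_pow0 : Md.chk (powWord 7 0) 0 480 = true := by decide +kernel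

theorem Md_pow1 : Md.chk (powWord 7 1) 0 480 = true := by decide +kernel

theorem Md_pow2 : Md.chk (powWord 7 2) 0 480 = true := by decide +kernel

theorem Md_pow3 : Md.chk (powWord 7 3) 0 480 = true := by decide +kernel

theorem Md_pow4 : Md.chk (powWord 7 4) 0 480 = true := by decide +kernel

theorem Md_pow5 : Md.chk (powWord 7 5) 0 480 = true := by decide +kernel

theorem Md_pow6 : Md.chk (powWord 7 6) 0 480 = true := by decide +kernel

theorem gm_pow (i : ℕ) : gm i ^ 7 = 1 := by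
  by_cases h : i < 7
  · interval_cases i
    · exact Model.gm_pow' Md_ok 0 7 Md_pow0
    · exact Model.gm_pow' Md_ok 1 7 Md_pow1
    · exact Model.gm_pow' Md_ok 2 7 Md_pow2
    · exact Model.gm_pow' Md_ok 3 7 Md_pow3
    · exact Model.gm_pow' Md_ok 4 7 Md_pow4
    · exact Model.gm_pow' Md_ok 5 7 Md_pow5
    · exact Model.gm_pow' Md_ok 6 7 Md_pow6
  · rw [gm_eq_one i (by omega), one_pow]

theorem valid_L2_0 : ∀ r ∈ L2.srels0.map SRel.word, ev gm r = 1 := by
  refine forall_mem_of_chunks _ _ 8 2 (by norm_num) (by rw [List.length_map]; decide) ?_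
  intro a ha
  interval_cases a
  · exact Model.relsOKs_valid Md_ok _ v_L2_0_0
  · exact Model.relsOKs_valid Md_ok _ v_L2_0_1

theorem valid_L3_0 : ∀ r ∈ L3.srels0.map SRel.word, ev gm r = 1 := by
  refine forall_mem_of_chunks _ _ 8 13 (by norm_num) (by rw [List.length_map]; decide) ?_
  intro a ha
  interval_cases a
  · exact Model.relsOKs_valid Md_ok _ v_L3_0_0
  · exact Model.relsOKs_valid Md_ok _ v_L3_0_1
  · exact Model.relsOKs_valid Md_ok _ v_L3_0_2
  · exact Model.relsOKs_valid Md_ok _ v_L3_0_3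
  · exact Model.relsOKs_valid Md_ok _ v_L3_0_4
  · exact Model.relsOKs_valid Md_ok _ v_L3_0_5
  · exact Model.relsOKs_valid Md_ok _ v_L3_0_6
  · exact Model.relsOKs_valid Md_ok _ v_L3_0_7
  · exact Model.relsOKs_valid Md_ok _ v_L3_0_8
  · exact Model.relsOKs_valid Md_ok _ v_L3_0_9
  · exact Model.relsOKs_valid Md_ok _ v_L3_0_10
  · exact Model.relsOKs_valid Md_ok _ v_L3_0_11
  · exact Model.relsOKs_valid Md_ok _ v_L3_0_12

theorem valid_L3_1 : ∀ r ∈ L3.srels1.map SRel.word, ev gm r = 1 := by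
  refine forall_mem_of_chunks _ _ 8 12 (by norm_num) (by rw [List.length_map]; decide) ?_
  intro a ha
  interval_cases a
  · exact Model.relsOKs_valid Md_ok _ v_L3_1_0
  · exact Model.relsOKs_valid Md_ok _ v_L3_1_1
  · exact Model.relsOKs_valid Md_ok _ v_L3_1_2
  · exact Model.relsOKs_valid Md_ok _ v_L3_1_3
  · exact Model.relsOKs_valid Md_ok _ v_L3_1_4
  · exact Model.relsOKs_valid Md_ok _ v_L3_1_5
  · exact Model.relsOKs_valid Md_ok _ v_L3_1_6
  · exact Model.relsOKs_valid Md_ok _ v_L3_1_7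
  · exact Model.relsOKs_valid Md_ok _ v_L3_1_8
  · exact Model.relsOKs_valid Md_ok _ v_L3_1_9
  · exact Model.relsOKs_valid Md_ok _ v_L3_1_10
  · exact Model.relsOKs_valid Md_ok _ v_L3_1_11

theorem valid_L4_0 : ∀ r ∈ L4.srels0.map SRel.word, ev gm r = 1 := by
  refine forall_mem_of_chunks _ _ 8 13 (by norm_num) (by rw [List.length_map]; decide) ?_
  intro a ha
  interval_cases a
  · exact Model.relsOKs_valid Md_ok _ v_L4_0_0
  · exact Model.relsOKs_valid Md_ok _ v_L4_0_1
  · exact Model.relsOKs_valid Md_ok _ v_L4_0_2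
  · exact Model.relsOKs_valid Md_ok _ v_L4_0_3
  · exact Model.relsOKs_valid Md_ok _ v_L4_0_4
  · exact Model.relsOKs_valid Md_ok _ v_L4_0_5
  · exact Model.relsOKs_valid Md_ok _ v_L4_0_6
  · exact Model.relsOKs_valid Md_ok _ v_L4_0_7
  · exact Model.relsOKs_valid Md_ok _ v_L4_0_8
  · exact Model.relsOKs_valid Md_ok _ v_L4_0_9
  · exact Model.relsOKs_valid Md_ok _ v_L4_0_10
  · exact Model.relsOKs_valid Md_ok _ v_L4_0_11
  · exact Model.relsOKs_valid Md_ok _ v_L4_0_12

theorem valid_L4_1 : ∀ r ∈ L4.srels1.map SRel.word, ev gm r = 1 := by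
  refine forall_mem_of_chunks _ _ 8 13 (by norm_num) (by rw [List.length_map]; decide) ?_
  intro a ha
  interval_cases a
  · exact Model.relsOKs_valid Md_ok _ v_L4_1_0
  · exact Model.relsOKs_valid Md_ok _ v_L4_1_1
  · exact Model.relsOKs_valid Md_ok _ v_L4_1_2
  · exact Model.relsOKs_valid Md_ok _ v_L4_1_3
  · exact Model.relsOKs_valid Md_ok _ v_L4_1_4
  · exact Model.relsOKs_valid Md_ok _ v_L4_1_5
  · exact Model.relsOKs_valid Md_ok _ v_L4_1_6
  · exact Model.relsOKs_valid Md_ok _ v_L4_1_7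
  · exact Model.relsOKs_valid Md_ok _ v_L4_1_8
  · exact Model.relsOKs_valid Md_ok _ v_L4_1_9
  · exact Model.relsOKs_valid Md_ok _ v_L4_1_10
  · exact Model.relsOKs_valid Md_ok _ v_L4_1_11
  · exact Model.relsOKs_valid Md_ok _ v_L4_1_12

theorem valid_L4_2 : ∀ r ∈ L4.srels2.map SRel.word, ev gm r = 1 := by
  refine forall_mem_of_chunks _ _ 8 13 (by norm_num) (by rw [List.length_map]; decide) ?_
  intro a ha
  interval_cases a
  · exact Model.relsOKs_valid Md_ok _ v_L4_2_0
  · exact Model.relsOKs_valid Md_ok _ v_L4_2_1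
  · exact Model.relsOKs_valid Md_ok _ v_L4_2_2
  · exact Model.relsOKs_valid Md_ok _ v_L4_2_3
  · exact Model.relsOKs_valid Md_ok _ v_L4_2_4
  · exact Model.relsOKs_valid Md_ok _ v_L4_2_5
  · exact Model.relsOKs_valid Md_ok _ v_L4_2_6
  · exact Model.relsOKs_valid Md_ok _ v_L4_2_7
  · exact Model.relsOKs_valid Md_ok _ v_L4_2_8
  · exact Model.relsOKs_valid Md_ok _ v_L4_2_9
  · exact Model.relsOKs_valid Md_ok _ v_L4_2_10
  · exact Model.relsOKs_valid Md_ok _ v_L4_2_11
  · exact Model.relsOKs_valid Md_ok _ v_L4_2_12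

theorem valid_L4_3 : ∀ r ∈ L4.srels3.map SRel.word, ev gm r = 1 := by
  refine forall_mem_of_chunks _ _ 8 13 (by norm_num) (by rw [List.length_map]; decide) ?_
  intro a ha
  interval_cases a
  · exact Model.relsOKs_valid Md_ok _ v_L4_3_0
  · exact Model.relsOKs_valid Md_ok _ v_L4_3_1
  · exact Model.relsOKs_valid Md_ok _ v_L4_3_2
  · exact Model.relsOKs_valid Md_ok _ v_L4_3_3
  · exact Model.relsOKs_valid Md_ok _ v_L4_3_4
  · exact Model.relsOKs_valid Md_ok _ v_L4_3_5
  · exact Model.relsOKs_valid Md_ok _ v_L4_3_6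
  · exact Model.relsOKs_valid Md_ok _ v_L4_3_7
  · exact Model.relsOKs_valid Md_ok _ v_L4_3_8
  · exact Model.relsOKs_valid Md_ok _ v_L4_3_9
  · exact Model.relsOKs_valid Md_ok _ v_L4_3_10
  · exact Model.relsOKs_valid Md_ok _ v_L4_3_11
  · exact Model.relsOKs_valid Md_ok _ v_L4_3_12

theorem valid_L4_4 : ∀ r ∈ L4.srels4.map SRel.word, ev gm r = 1 := by
  refine forall_mem_of_chunks _ _ 8 6 (by norm_num) (by rw [List.length_map]; decide) ?_
  intro a ha
  interval_cases a
  · exact Model.relsOKs_valid Md_ok _ v_L4_4_0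
  · exact Model.relsOKs_valid Md_ok _ v_L4_4_1
  · exact Model.relsOKs_valid Md_ok _ v_L4_4_2
  · exact Model.relsOKs_valid Md_ok _ v_L4_4_3
  · exact Model.relsOKs_valid Md_ok _ v_L4_4_4
  · exact Model.relsOKs_valid Md_ok _ v_L4_4_5

theorem valid_L5_0 : ∀ r ∈ L5.srels0.map SRel.word, ev gm r = 1 := by
  refine forall_mem_of_chunks _ _ 8 13 (by norm_num) (by rw [List.length_map]; decide) ?_
  intro a ha
  interval_cases a
  · exact Model.relsOKs_valid Md_ok _ v_L5_0_0
  · exact Model.relsOKs_valid Md_ok _ v_L5_0_1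
  · exact Model.relsOKs_valid Md_ok _ v_L5_0_2
  · exact Model.relsOKs_valid Md_ok _ v_L5_0_3
  · exact Model.relsOKs_valid Md_ok _ v_L5_0_4
  · exact Model.relsOKs_valid Md_ok _ v_L5_0_5
  · exact Model.relsOKs_valid Md_ok _ v_L5_0_6
  · exact Model.relsOKs_valid Md_ok _ v_L5_0_7
  · exact Model.relsOKs_valid Md_ok _ v_L5_0_8
  · exact Model.relsOKs_valid Md_ok _ v_L5_0_9
  · exact Model.relsOKs_valid Md_ok _ v_L5_0_10
  · exact Model.relsOKs_valid Md_ok _ v_L5_0_11
  · exact Model.relsOKs_valid Md_ok _ v_L5_0_12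

theorem valid_L5_1 : ∀ r ∈ L5.srels1.map SRel.word, ev gm r = 1 := by
  refine forall_mem_of_chunks _ _ 8 13 (by norm_num) (by rw [List.length_map]; decide) ?_
  intro a ha
  interval_cases a
  · exact Model.relsOKs_valid Md_ok _ v_L5_1_0
  · exact Model.relsOKs_valid Md_ok _ v_L5_1_1
  · exact Model.relsOKs_valid Md_ok _ v_L5_1_2
  · exact Model.relsOKs_valid Md_ok _ v_L5_1_3
  · exact Model.relsOKs_valid Md_ok _ v_L5_1_4
  · exact Model.relsOKs_valid Md_ok _ v_L5_1_5
  · exact Model.relsOKs_valid Md_ok _ v_L5_1_6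
  · exact Model.relsOKs_valid Md_ok _ v_L5_1_7
  · exact Model.relsOKs_valid Md_ok _ v_L5_1_8
  · exact Model.relsOKs_valid Md_ok _ v_L5_1_9
  · exact Model.relsOKs_valid Md_ok _ v_L5_1_10
  · exact Model.relsOKs_valid Md_ok _ v_L5_1_11
  · exact Model.relsOKs_valid Md_ok _ v_L5_1_12

theorem valid_L5_2 : ∀ r ∈ L5.srels2.map SRel.word, ev gm r = 1 := by
  refine forall_mem_of_chunks _ _ 8 13 (by norm_num) (by rw [List.length_map]; decide) ?_
  intro a ha
  interval_cases a
  · exact Model.relsOKs_valid Md_ok _ v_L5_2_0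
  · exact Model.relsOKs_valid Md_ok _ v_L5_2_1
  · exact Model.relsOKs_valid Md_ok _ v_L5_2_2
  · exact Model.relsOKs_valid Md_ok _ v_L5_2_3
  · exact Model.relsOKs_valid Md_ok _ v_L5_2_4
  · exact Model.relsOKs_valid Md_ok _ v_L5_2_5
  · exact Model.relsOKs_valid Md_ok _ v_L5_2_6
  · exact Model.relsOKs_valid Md_ok _ v_L5_2_7
  · exact Model.relsOKs_valid Md_ok _ v_L5_2_8
  · exact Model.relsOKs_valid Md_ok _ v_L5_2_9
  · exact Model.relsOKs_valid Md_ok _ v_L5_2_10
  · exact Model.relsOKs_valid Md_ok _ v_L5_2_11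
  · exact Model.relsOKs_valid Md_ok _ v_L5_2_12

theorem valid_L5_3 : ∀ r ∈ L5.srels3.map SRel.word, ev gm r = 1 := by
  refine forall_mem_of_chunks _ _ 8 13 (by norm_num) (by rw [List.length_map]; decide) ?_
  intro a ha
  interval_cases a
  · exact Model.relsOKs_valid Md_ok _ v_L5_3_0
  · exact Model.relsOKs_valid Md_ok _ v_L5_3_1
  · exact Model.relsOKs_valid Md_ok _ v_L5_3_2
  · exact Model.relsOKs_valid Md_ok _ v_L5_3_3
  · exact Model.relsOKs_valid Md_ok _ v_L5_3_4
  · exact Model.relsOKs_valid Md_ok _ v_L5_3_5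
  · exact Model.relsOKs_valid Md_ok _ v_L5_3_6
  · exact Model.relsOKs_valid Md_ok _ v_L5_3_7
  · exact Model.relsOKs_valid Md_ok _ v_L5_3_8
  · exact Model.relsOKs_valid Md_ok _ v_L5_3_9
  · exact Model.relsOKs_valid Md_ok _ v_L5_3_10
  · exact Model.relsOKs_valid Md_ok _ v_L5_3_11
  · exact Model.relsOKs_valid Md_ok _ v_L5_3_12

theorem valid_L5_4 : ∀ r ∈ L5.srels4.map SRel.word, ev gm r = 1 := by
  refine forall_mem_of_chunks _ _ 8 13 (by norm_num) (by rw [List.length_map]; decide) ?_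
  intro a ha
  interval_cases a
  · exact Model.relsOKs_valid Md_ok _ v_L5_4_0
  · exact Model.relsOKs_valid Md_ok _ v_L5_4_1
  · exact Model.relsOKs_valid Md_ok _ v_L5_4_2
  · exact Model.relsOKs_valid Md_ok _ v_L5_4_3
  · exact Model.relsOKs_valid Md_ok _ v_L5_4_4
  · exact Model.relsOKs_valid Md_ok _ v_L5_4_5
  · exact Model.relsOKs_valid Md_ok _ v_L5_4_6
  · exact Model.relsOKs_valid Md_ok _ v_L5_4_7
  · exact Model.relsOKs_valid Md_ok _ v_L5_4_8
  · exact Model.relsOKs_valid Md_ok _ v_L5_4_9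
  · exact Model.relsOKs_valid Md_ok _ v_L5_4_10
  · exact Model.relsOKs_valid Md_ok _ v_L5_4_11
  · exact Model.relsOKs_valid Md_ok _ v_L5_4_12

theorem valid_L5_5 : ∀ r ∈ L5.srels5.map SRel.word, ev gm r = 1 := by
  refine forall_mem_of_chunks _ _ 8 13 (by norm_num) (by rw [List.length_map]; decide) ?_
  intro a ha
  interval_cases a
  · exact Model.relsOKs_valid Md_ok _ v_L5_5_0
  · exact Model.relsOKs_valid Md_ok _ v_L5_5_1
  · exact Model.relsOKs_valid Md_ok _ v_L5_5_2
  · exact Model.relsOKs_valid Md_ok _ v_L5_5_3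
  · exact Model.relsOKs_valid Md_ok _ v_L5_5_4
  · exact Model.relsOKs_valid Md_ok _ v_L5_5_5
  · exact Model.relsOKs_valid Md_ok _ v_L5_5_6
  · exact Model.relsOKs_valid Md_ok _ v_L5_5_7
  · exact Model.relsOKs_valid Md_ok _ v_L5_5_8
  · exact Model.relsOKs_valid Md_ok _ v_L5_5_9
  · exact Model.relsOKs_valid Md_ok _ v_L5_5_10
  · exact Model.relsOKs_valid Md_ok _ v_L5_5_11
  · exact Model.relsOKs_valid Md_ok _ v_L5_5_12

theorem valid_L5_6 : ∀ r ∈ L5.srels6.map SRel.word, ev gm r = 1 := by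
  refine forall_mem_of_chunks _ _ 8 13 (by norm_num) (by rw [List.length_map]; decide) ?_
  intro a ha
  interval_cases a
  · exact Model.relsOKs_valid Md_ok _ v_L5_6_0
  · exact Model.relsOKs_valid Md_ok _ v_L5_6_1
  · exact Model.relsOKs_valid Md_ok _ v_L5_6_2
  · exact Model.relsOKs_valid Md_ok _ v_L5_6_3
  · exact Model.relsOKs_valid Md_ok _ v_L5_6_4
  · exact Model.relsOKs_valid Md_ok _ v_L5_6_5
  · exact Model.relsOKs_valid Md_ok _ v_L5_6_6
  · exact Model.relsOKs_valid Md_ok _ v_L5_6_7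
  · exact Model.relsOKs_valid Md_ok _ v_L5_6_8
  · exact Model.relsOKs_valid Md_ok _ v_L5_6_9
  · exact Model.relsOKs_valid Md_ok _ v_L5_6_10
  · exact Model.relsOKs_valid Md_ok _ v_L5_6_11
  · exact Model.relsOKs_valid Md_ok _ v_L5_6_12

theorem valid_L5_7 : ∀ r ∈ L5.srels7.map SRel.word, ev gm r = 1 := by
  refine forall_mem_of_chunks _ _ 8 13 (by norm_num) (by rw [List.length_map]; decide) ?_
  intro a ha
  interval_cases a
  · exact Model.relsOKs_valid Md_ok _ v_L5_7_0
  · exact Model.relsOKs_valid Md_ok _ v_L5_7_1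
  · exact Model.relsOKs_valid Md_ok _ v_L5_7_2
  · exact Model.relsOKs_valid Md_ok _ v_L5_7_3
  · exact Model.relsOKs_valid Md_ok _ v_L5_7_4
  · exact Model.relsOKs_valid Md_ok _ v_L5_7_5
  · exact Model.relsOKs_valid Md_ok _ v_L5_7_6
  · exact Model.relsOKs_valid Md_ok _ v_L5_7_7
  · exact Model.relsOKs_valid Md_ok _ v_L5_7_8
  · exact Model.relsOKs_valid Md_ok _ v_L5_7_9
  · exact Model.relsOKs_valid Md_ok _ v_L5_7_10
  · exact Model.relsOKs_valid Md_ok _ v_L5_7_11
  · exact Model.relsOKs_valid Md_ok _ v_L5_7_12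

theorem valid_L5_8 : ∀ r ∈ L5.srels8.map SRel.word, ev gm r = 1 := by
  refine forall_mem_of_chunks _ _ 8 13 (by norm_num) (by rw [List.length_map]; decide) ?_
  intro a ha
  interval_cases a
  · exact Model.relsOKs_valid Md_ok _ v_L5_8_0
  · exact Model.relsOKs_valid Md_ok _ v_L5_8_1
  · exact Model.relsOKs_valid Md_ok _ v_L5_8_2
  · exact Model.relsOKs_valid Md_ok _ v_L5_8_3
  · exact Model.relsOKs_valid Md_ok _ v_L5_8_4
  · exact Model.relsOKs_valid Md_ok _ v_L5_8_5
  · exact Model.relsOKs_valid Md_ok _ v_L5_8_6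
  · exact Model.relsOKs_valid Md_ok _ v_L5_8_7
  · exact Model.relsOKs_valid Md_ok _ v_L5_8_8
  · exact Model.relsOKs_valid Md_ok _ v_L5_8_9
  · exact Model.relsOKs_valid Md_ok _ v_L5_8_10
  · exact Model.relsOKs_valid Md_ok _ v_L5_8_11
  · exact Model.relsOKs_valid Md_ok _ v_L5_8_12

theorem valid_L5_9 : ∀ r ∈ L5.srels9.map SRel.word, ev gm r = 1 := by
  refine forall_mem_of_chunks _ _ 8 4 (by norm_num) (by rw [List.length_map]; decide) ?_
  intro a ha
  interval_cases a
  · exact Model.relsOKs_valid Md_ok _ v_L5_9_0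
  · exact Model.relsOKs_valid Md_ok _ v_L5_9_1
  · exact Model.relsOKs_valid Md_ok _ v_L5_9_2
  · exact Model.relsOKs_valid Md_ok _ v_L5_9_3

theorem valid_L2 : ∀ r ∈ L2.srels, ev gm r.word = 1 := by
  intro r hr
  exact valid_L2_0 _ (List.mem_map_of_mem (L2.mem_srels hr))

theorem valid_L3 : ∀ r ∈ L3.srels, ev gm r.word = 1 := by
  intro r hr
  rcases L3.mem_srels hr with h | h
  · exact valid_L3_0 _ (List.mem_map_of_mem h)
  · exact valid_L3_1 _ (List.mem_map_of_mem h)

theorem valid_L4 : ∀ r ∈ L4.srels, ev gm r.word = 1 := by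
  intro r hr
  rcases L4.mem_srels hr with h | h | h | h | h
  · exact valid_L4_0 _ (List.mem_map_of_mem h)
  · exact valid_L4_1 _ (List.mem_map_of_mem h)
  · exact valid_L4_2 _ (List.mem_map_of_mem h)
  · exact valid_L4_3 _ (List.mem_map_of_mem h)
  · exact valid_L4_4 _ (List.mem_map_of_mem h)

theorem valid_L5 : ∀ r ∈ L5.srels, ev gm r.word = 1 := by
  intro r hr
  rcases L5.mem_srels hr with h | h | h | h | h | h | h | h | h | h
  · exact valid_L5_0 _ (List.mem_map_of_mem h)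
  · exact valid_L5_1 _ (List.mem_map_of_mem h)
  · exact valid_L5_2 _ (List.mem_map_of_mem h)
  · exact valid_L5_3 _ (List.mem_map_of_mem h)
  · exact valid_L5_4 _ (List.mem_map_of_mem h)
  · exact valid_L5_5 _ (List.mem_map_of_mem h)
  · exact valid_L5_6 _ (List.mem_map_of_mem h)
  · exact valid_L5_7 _ (List.mem_map_of_mem h)
  · exact valid_L5_8 _ (List.mem_map_of_mem h)
  · exact valid_L5_9 _ (List.mem_map_of_mem h)

theorem hvalidM : ∀ r ∈ srelsAll, ev gm r.word = 1 := by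
  intro r hr
  unfold srelsAll at hr
  rw [List.mem_append, List.mem_append, List.mem_append] at hr
  rcases hr with ((h | h) | h) | h
  · exact valid_L2 r h
  · exact valid_L3 r h
  · exact valid_L4 r h
  · exact valid_L5 r h

/-- `n` copies of a word -/
def wrep (n : ℕ) (w : Word) : Word := (List.replicate n w).flatten

theorem ev_wrep {L : Type*} [Group L] (t : ℕ → L) (n : ℕ) (w : Word) : ev t (wrep n w) = ev t w ^ n := by
  unfold wrep
  induction n with
  | zero => simp
  | succ n ih => rw [List.replicate_succ, List.flatten_cons, ev_append, ih, pow_succ']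

/-- the relator expressing that the word `w` commutes with the generator `i` -/
def centRelW (w : Word) (i : ℕ) : Word := 2 * i :: (w ++ (2 * i + 1) :: winv w)

theorem comm_of_relW {L : Type*} [Group L] (t : ℕ → L) (w : Word) (i : ℕ)
    (hv : ev t (centRelW w i) = 1) : t i * ev t w = ev t w * t i := by
  unfold centRelW at hv
  rw [ev_cons, ev_append, ev_cons, ev_winv, lv_two_mul, lv_two_mul_add_one] at hv
  have h2 : t i * ev t w = (t i * (ev t w * ((t i)⁻¹ * (ev t w)⁻¹))) * (ev t w * t i) := by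
    group
  rw [h2, hv, one_mul]

theorem Md_cent_wza_0 : Md.chk (centRelW wza 0) 0 480 = true := by decide +kernel

theorem Md_cent_wza_1 : Md.chk (centRelW wza 1) 0 480 = true := by decide +kernel

theorem Md_cent_wza_2 : Md.chk (centRelW wza 2) 0 480 = true := by decide +kernel

theorem Md_cent_wza_3 : Md.chk (centRelW wza 3) 0 480 = true := by decide +kernel

theorem Md_cent_wza_4 : Md.chk (centRelW wza 4) 0 480 = true := by decide +kernel

theorem Md_cent_wza_5 : Md.chk (centRelW wza 5) 0 480 = true := by decide +kernel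

theorem Md_cent_wza_6 : Md.chk (centRelW wza 6) 0 480 = true := by decide +kernel

theorem za_comm (i : ℕ) (h : i < 7) : gm i * ev gm wza = ev gm wza * gm i := by
  apply comm_of_relW
  interval_cases i
  · exact Model.ev_one_of_chk1 Md_ok _ Md_cent_wza_0
  · exact Model.ev_one_of_chk1 Md_ok _ Md_cent_wza_1
  · exact Model.ev_one_of_chk1 Md_ok _ Md_cent_wza_2
  · exact Model.ev_one_of_chk1 Md_ok _ Md_cent_wza_3
  · exact Model.ev_one_of_chk1 Md_ok _ Md_cent_wza_4
  · exact Model.ev_one_of_chk1 Md_ok _ Md_cent_wza_5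
  · exact Model.ev_one_of_chk1 Md_ok _ Md_cent_wza_6

theorem Md_pow_wza : Md.chk (wrep 2 wza) 0 480 = true := by decide +kernel

theorem za_sq : ev gm wza ^ 2 = 1 := by
  have := Model.ev_one_of_chk1 Md_ok (wrep 2 wza) Md_pow_wza
  rwa [ev_wrep] at this

theorem Md_cent_wzb_0 : Md.chk (centRelW wzb 0) 0 480 = true := by decide +kernel

theorem Md_cent_wzb_1 : Md.chk (centRelW wzb 1) 0 480 = true := by decide +kernel

theorem Md_cent_wzb_2 : Md.chk (centRelW wzb 2) 0 480 = true := by decide +kernel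

theorem Md_cent_wzb_3 : Md.chk (centRelW wzb 3) 0 480 = true := by decide +kernel

theorem Md_cent_wzb_4 : Md.chk (centRelW wzb 4) 0 480 = true := by decide +kernel

theorem Md_cent_wzb_5 : Md.chk (centRelW wzb 5) 0 480 = true := by decide +kernel

theorem Md_cent_wzb_6 : Md.chk (centRelW wzb 6) 0 480 = true := by decide +kernel

theorem zb_comm (i : ℕ) (h : i < 7) : gm i * ev gm wzb = ev gm wzb * gm i := by
  apply comm_of_relW
  interval_cases i
  · exact Model.ev_one_of_chk1 Md_ok _ Md_cent_wzb_0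
  · exact Model.ev_one_of_chk1 Md_ok _ Md_cent_wzb_1
  · exact Model.ev_one_of_chk1 Md_ok _ Md_cent_wzb_2
  · exact Model.ev_one_of_chk1 Md_ok _ Md_cent_wzb_3
  · exact Model.ev_one_of_chk1 Md_ok _ Md_cent_wzb_4
  · exact Model.ev_one_of_chk1 Md_ok _ Md_cent_wzb_5
  · exact Model.ev_one_of_chk1 Md_ok _ Md_cent_wzb_6

theorem Md_pow_wzb : Md.chk (wrep 2 wzb) 0 480 = true := by decide +kernel

theorem zb_sq : ev gm wzb ^ 2 = 1 := by
  have := Model.ev_one_of_chk1 Md_ok (wrep 2 wzb) Md_pow_wzb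
  rwa [ev_wrep] at this

theorem za_ne : ev gm wza ≠ 1 :=
  Model.ev_ne_one Md_ok wza (by decide) 240 (by decide) (by decide +kernel)

theorem zb_ne : ev gm wzb ≠ 1 :=
  Model.ev_ne_one Md_ok wzb (by decide) 0 (by decide) (by decide +kernel)

theorem zab_ne : ev gm wza * ev gm wzb ≠ 1 := by
  rw [← ev_append]
  exact Model.ev_ne_one Md_ok (wza ++ wzb) (by decide) 0 (by decide) (by decide +kernel)

end Cfsg.Agent.Lib.Helper30.O8.ModB
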