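import Cfsg.Agent.Lib.Helper30.O8.ValidG
import Cfsg.Agent.Lib.Helper30.O8.L2Cert
import Cfsg.Agent.Lib.Helper30.O8.L3Cert
import Cfsg.Agent.Lib.Helper30.O8.L4Cert
import Cfsg.Agent.Lib.Helper30.O8.L5Cert
import Cfsg.Agent.Lib.Helper30.O8.ModB
import Cfsg.Agent.Lib.Helper92.M22.StemE
import Cfsg.Agent.Lib.Helper2.Sz8STEM
import Cfsg.Agent.Lib.Helper89.MultTransfer

/-! # The Schur multiplier of `Ω₈⁺(2)` is `Z/2 × Z/2` (assembly) -/

set_option autoImplicit false
set_option maxRecDepth 1000000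
set_option maxHeartbeats 0

namespace Cfsg.Agent.Lib.Helper30.O8

open Cfsg Cfsg.Agent.Lib.Helper89.CosetCert Cfsg.Agent.Lib.Helper89.SafePres
open Cfsg.Agent.Lib.Helper89.StemSafe Cfsg.Agent.Lib.Helper89.SafePres2
open Cfsg.Agent.Lib.Helper92.StemE
open Cfsg.Agent.Lib.Helper72.O8
open scoped commutatorElement

/-! ### the presentation bound -/

theorem pw2 : ∀ q ∈ L2.pw, q.1 = ord q.2 ∧ q.2 < 7 := by decide
theorem pw3 : ∀ q ∈ L3.pw, q.1 = ord q.2 ∧ q.2 < 7 := by decide
theorem pw4 : ∀ q ∈ L4.pw, q.1 = ord q.2 ∧ q.2 < 7 := by decide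
theorem pw5 : ∀ q ∈ L5.pw, q.1 = ord q.2 ∧ q.2 < 7 := by decide

theorem closure_one {L : Type*} [Group L] (t : ℕ → L) (ht : t 0 ^ 7 = 1) :
    Nat.card (Subgroup.closure {y | ∃ i < 1, y = t i}) ≤ 7 := by
  have e : {y | ∃ i < 1, y = t i} = ({t 0} : Set L) := by
    ext y
    constructor
    · rintro ⟨i, hi, rfl⟩
      have : i = 0 := by omega
      subst this
      rfl
    · intro hy
      exact ⟨0, by norm_num, hy⟩
  rw [e, ← Subgroup.zpowers_eq_closure, Nat.card_zpowers]
  exact Nat.le_of_dvd (by norm_num) (orderOf_dvd_of_pow_eq_one ht)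

/-- the chain of coset enumerations bounds the order of any group satisfying the relators -/
theorem hbound (L : Type) [Group L] [Finite L] (t : ℕ → L) (ht : ∀ i, t i ^ ord i = 1)
    (hs : ∀ r ∈ srelsAll, ev t r.word = 1) :
    Nat.card (Subgroup.closure {y | ∃ i < 7, y = t i}) ≤ 4 * 174182400 := by
  have hs2 : ∀ r ∈ L2.srels, ev t r.word = 1 := fun r hr => hs r (by
    unfold srelsAll; simp only [List.mem_append]; tauto)
  have hs3 : ∀ r ∈ L3.srels, ev t r.word = 1 := fun r hr => hs r (by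
    unfold srelsAll; simp only [List.mem_append]; tauto)
  have hs4 : ∀ r ∈ L4.srels, ev t r.word = 1 := fun r hr => hs r (by
    unfold srelsAll; simp only [List.mem_append]; tauto)
  have hs5 : ∀ r ∈ L5.srels, ev t r.word = 1 := fun r hr => hs r (by
    unfold srelsAll; simp only [List.mem_append]; tauto)
  have hr2 : ∀ r ∈ L2.cert.rels, ev t r = 1 := by
    show ∀ r ∈ L2.rels, ev t r = 1
    rw [L2.rels_eq]
    exact rels_valid t _ _ (fun q hq => by rw [(pw2 q hq).1]; exact ht _) hs2
  have hr3 : ∀ r ∈ L3.cert.rels, ev t r = 1 := by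
    show ∀ r ∈ L3.rels, ev t r = 1
    rw [L3.rels_eq]
    exact rels_valid t _ _ (fun q hq => by rw [(pw3 q hq).1]; exact ht _) hs3
  have hr4 : ∀ r ∈ L4.cert.rels, ev t r = 1 := by
    show ∀ r ∈ L4.rels, ev t r = 1
    rw [L4.rels_eq]
    exact rels_valid t _ _ (fun q hq => by rw [(pw4 q hq).1]; exact ht _) hs4
  have hr5 : ∀ r ∈ L5.cert.rels, ev t r = 1 := by
    show ∀ r ∈ L5.rels, ev t r = 1
    rw [L5.rels_eq]
    exact rels_valid t _ _ (fun q hq => by rw [(pw5 q hq).1]; exact ht _) hs5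
  have h0 : t 0 ^ 7 = 1 := by
    have := ht 0
    rwa [ord_lt 0 (by norm_num)] at this
  have c1 : Nat.card (Subgroup.closure {y | ∃ i < L2.cert.j0, y = t i}) ≤ 7 := closure_one t h0
  have c2 := cert_step t L2.cert L2.cert_ok hr2 _ c1
  have c3 := cert_step t L3.cert L3.cert_ok hr3 _ c2
  have c4 := cert_step t L4.cert L4.cert_ok hr4 _ c3
  have c5 := cert_step t L5.cert L5.cert_ok hr5 _ c4
  exact c5

/-! ### the exponent of the kernel of a stem extension -/

theorem hexp (Γ : Type) [Group Γ] [Finite Γ] (σ : Γ →* G0)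
    (hσ : Cfsg.IsStemExtension σ) : ∀ z ∈ σ.ker, z ^ 24883200 = 1 := by
  intro z hz
  have hc := pow_card_eq_one σ hσ hz
  rw [card_G0] at hc
  have hd : orderOf z ∣ 24883200 * 7 := by
    have := orderOf_dvd_of_pow_eq_one hc
    norm_num at this ⊢
    exact this
  have h7 : ¬ 7 ∣ orderOf z :=
    not_dvd_of_cyclic_sylow σ hσ 7 (by norm_num) (g 0) 1 24883200
      (by rw [pow_one]; exact orderOf_g0)
      (by rw [card_G0]; norm_num) (by norm_num) hz
  have hcop : Nat.Coprime (orderOf z) 7 :=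
    Nat.Coprime.symm ((Nat.Prime.coprime_iff_not_dvd (by norm_num)).2 h7)
  exact orderOf_dvd_iff_pow_eq_one.mp (hcop.dvd_of_dvd_mul_right hd)

/-! ### the explicit cover -/

/-- the generators of the cover inside `Perm (Fin 480) × Ω₈⁺(2)` -/
noncomputable def tau (i : ℕ) : Equiv.Perm (Fin 480) × G0 := (ModB.gm i, g i)

/-- the cover -/
noncomputable def Gam : Subgroup (Equiv.Perm (Fin 480) × G0) :=
  Subgroup.closure {y | ∃ i < 7, y = tau i}

theorem tau_mem (i : ℕ) : tau i ∈ Gam := by
  by_cases hi : i < 7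
  · exact Subgroup.subset_closure ⟨i, hi, rfl⟩
  · have h1 : tau i = 1 := by
      unfold tau
      rw [ModB.gm_eq_one i (by omega), g_eq_one i (by omega)]
      rfl
    rw [h1]
    exact Gam.one_mem

/-- the generators as elements of the cover -/
noncomputable def tau' (i : ℕ) : Gam := ⟨tau i, tau_mem i⟩

theorem ev_tau' (w : Word) : ((ev tau' w : Gam) : Equiv.Perm (Fin 480) × G0) =
    (ev ModB.gm w, ev g w) := by
  have h1 := ev_map_hom Gam.subtype tau' w
  have h2 : (fun i => Gam.subtype (tau' i)) = fun i => (ModB.gm i, g i) := rfl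
  rw [h2, ev_prod] at h1
  exact h1

theorem ev_tau'_eq_one (w : Word) (h1 : ev ModB.gm w = 1) (h2 : ev g w = 1) : ev tau' w = 1 := by
  apply Subtype.ext
  rw [ev_tau', h1, h2]
  rfl

/-- the projection of the cover onto `Ω₈⁺(2)` -/
noncomputable def sig : Gam →* G0 := (MonoidHom.snd _ _).comp Gam.subtype

theorem sig_tau' (i : ℕ) : sig (tau' i) = g i := rfl

theorem gm_pow_ord (i : ℕ) : ModB.gm i ^ ord i = 1 := by
  by_cases hi : i < 7
  · rw [ord_lt i hi]
    exact ModB.gm_pow i
  · rw [ModB.gm_eq_one i (by omega), one_pow]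

theorem tau'_pow (i : ℕ) : tau' i ^ ord i = 1 := by
  apply Subtype.ext
  show (ModB.gm i, g i) ^ ord i = 1
  rw [Prod.pow_mk, gm_pow_ord, g_pow]
  rfl

theorem tau'_rel : ∀ r ∈ srelsAll, ev tau' r.word = 1 := fun r hr =>
  ev_tau'_eq_one _ (ModB.hvalidM r hr) (hvalid r hr)

theorem tau'_gen : Subgroup.closure {y | ∃ i < 7, y = tau' i} = ⊤ := by
  have h := Subgroup.closure_closure_coe_preimage (k := {y | ∃ i < 7, y = tau i})
  have e : {y : Gam | ∃ i < 7, y = tau' i} =
      ((↑) ⁻¹' {y | ∃ i < 7, y = tau i} : Set Gam) := by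
    ext y
    constructor
    · rintro ⟨i, hi, rfl⟩
      exact ⟨i, hi, rfl⟩
    · rintro ⟨i, hi, h⟩
      exact ⟨i, hi, Subtype.ext h⟩
  rw [e]
  exact h

theorem ord_prime : ∀ i < 7, (ord i).Prime := by
  intro i hi
  rw [ord_lt i hi]
  norm_num

theorem tau'_perf : ∀ i < 7, tau' i ∈ commutator Gam := by
  intro i hi
  obtain ⟨r, hr, hri, hrj, hz⟩ := self_mem i hi
  have h := (ev_srel_eq_one_iff tau' r).mp (tau'_rel r hr)
  rw [hri, hrj] at h
  refine mem_commutator_of_conj (ev tau' r.W) (tau' i) (ord i) (ord_prime i hi) (tau'_pow i) _ h ?_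
  rw [ord_lt i hi]
  exact hz

/-! ### the kernel -/

/-- an element commuting with the generators is central -/
theorem mem_center_of_comm (z : Gam) (hz : ∀ i < 7, tau' i * z = z * tau' i) :
    z ∈ Subgroup.center Gam := by
  rw [Subgroup.mem_center_iff]
  intro x
  have hx : x ∈ Subgroup.closure {y | ∃ i < 7, y = tau' i} := by rw [tau'_gen]; trivial
  induction hx using Subgroup.closure_induction with
  | mem y hy =>
    obtain ⟨i, hi, rfl⟩ := hy
    exact hz i hi
  | one => rw [one_mul, mul_one]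
  | mul a b _ _ ha hb => rw [mul_assoc, hb, ← mul_assoc, ha, mul_assoc]
  | inv a _ ha =>
    have := congrArg (fun w => a⁻¹ * w * a⁻¹) ha
    simpa [mul_assoc] using this.symm

/-- the two central involutions -/
noncomputable def za : Gam := ev tau' wza

noncomputable def zb : Gam := ev tau' wzb

theorem za_coe : ((za : Gam) : Equiv.Perm (Fin 480) × G0) = (ev ModB.gm wza, 1) := by
  unfold za
  rw [ev_tau', za_g]

theorem zb_coe : ((zb : Gam) : Equiv.Perm (Fin 480) × G0) = (ev ModB.gm wzb, 1) := by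
  unfold zb
  rw [ev_tau', zb_g]

theorem za_ker : za ∈ sig.ker := by
  rw [MonoidHom.mem_ker]
  show ((za : Gam) : Equiv.Perm (Fin 480) × G0).2 = 1
  rw [za_coe]

theorem zb_ker : zb ∈ sig.ker := by
  rw [MonoidHom.mem_ker]
  show ((zb : Gam) : Equiv.Perm (Fin 480) × G0).2 = 1
  rw [zb_coe]

theorem za_cen : za ∈ Subgroup.center Gam := by
  apply mem_center_of_comm
  intro i hi
  apply Subtype.ext
  rw [Subgroup.coe_mul, Subgroup.coe_mul, za_coe]
  show (ModB.gm i, g i) * (ev ModB.gm wza, 1) = (ev ModB.gm wza, 1) * (ModB.gm i, g i)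
  rw [Prod.mk_mul_mk, Prod.mk_mul_mk, ModB.za_comm i hi, mul_one, one_mul]

theorem zb_cen : zb ∈ Subgroup.center Gam := by
  apply mem_center_of_comm
  intro i hi
  apply Subtype.ext
  rw [Subgroup.coe_mul, Subgroup.coe_mul, zb_coe]
  show (ModB.gm i, g i) * (ev ModB.gm wzb, 1) = (ev ModB.gm wzb, 1) * (ModB.gm i, g i)
  rw [Prod.mk_mul_mk, Prod.mk_mul_mk, ModB.zb_comm i hi, mul_one, one_mul]

theorem za_sq : za * za = 1 := by
  apply Subtype.ext
  rw [Subgroup.coe_mul, za_coe, Prod.mk_mul_mk, ← pow_two, ModB.za_sq, mul_one]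
  rfl

theorem zb_sq : zb * zb = 1 := by
  apply Subtype.ext
  rw [Subgroup.coe_mul, zb_coe, Prod.mk_mul_mk, ← pow_two, ModB.zb_sq, mul_one]
  rfl

theorem za_ne : za ≠ 1 := by
  intro h
  have h2 := congrArg (fun y : Gam => (y : Equiv.Perm (Fin 480) × G0).1) h
  simp only [za_coe] at h2
  exact ModB.za_ne h2

theorem zb_ne : zb ≠ 1 := by
  intro h
  have h2 := congrArg (fun y : Gam => (y : Equiv.Perm (Fin 480) × G0).1) h
  simp only [zb_coe] at h2
  exact ModB.zb_ne h2

theorem zab_ne : za * zb ≠ 1 := by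
  intro h
  have h2 := congrArg (fun y : Gam => (y : Equiv.Perm (Fin 480) × G0).1) h
  simp only [Subgroup.coe_mul, za_coe, zb_coe, Prod.mk_mul_mk] at h2
  exact ModB.zab_ne h2

theorem sig_surjective : Function.Surjective sig := by
  have hmap : (⊤ : Subgroup Gam).map sig = ⊤ := by
    rw [← tau'_gen, map_closure_eq sig 7 tau' g sig_tau', closure_g]
  intro y
  have : y ∈ (⊤ : Subgroup Gam).map sig := by rw [hmap]; trivial
  obtain ⟨x, -, rfl⟩ := this
  exact ⟨x, rfl⟩

theorem card_ker_le : Nat.card sig.ker ≤ 4 := by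
  have hcard0 : Nat.card Gam ≤ 4 * 174182400 := by
    have := hbound Gam tau' tau'_pow tau'_rel
    rwa [tau'_gen, Subgroup.card_top] at this
  have hkermul : Nat.card Gam = Nat.card sig.ker * 174182400 := by
    have h1 := Subgroup.card_mul_index sig.ker
    rw [Subgroup.index_ker, MonoidHom.range_eq_top.mpr sig_surjective, Subgroup.card_top,
      card_G0] at h1
    exact h1.symm
  rw [hkermul] at hcard0
  exact Nat.le_of_mul_le_mul_right hcard0 (by norm_num)

/-- a group of order at most four with two distinct commuting involutions is a four-group -/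
theorem isKleinFour_of_card_le {K : Type*} [Group K] [Finite K] (hc : Nat.card K ≤ 4) (a b : K)
    (ha : a * a = 1) (hb : b * b = 1) (hab : a * b = b * a) (ha1 : a ≠ 1) (hb1 : b ≠ 1)
    (hne : a * b ≠ 1) : IsKleinFour K := by
  classical
  have : Fintype K := Fintype.ofFinite K
  have hbinv : b⁻¹ = b := inv_eq_of_mul_eq_one_right hb
  have e1 : a * b ≠ b := fun h => ha1 (mul_eq_right.mp h)
  have e2 : a * b ≠ a := fun h => hb1 (mul_eq_left.mp h)
  have e0 : a ≠ b := fun h => hne (by rw [h, hb])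
  let S : Finset K := {1, a, b, a * b}
  have hS : S.card = 4 := by
    rw [Finset.card_insert_of_notMem, Finset.card_insert_of_notMem,
      Finset.card_insert_of_notMem, Finset.card_singleton]
    · simp only [Finset.mem_singleton]; exact e1.symm
    · simp only [Finset.mem_insert, Finset.mem_singleton, not_or]
      exact ⟨e0, e2.symm⟩
    · simp only [Finset.mem_insert, Finset.mem_singleton, not_or]
      exact ⟨ha1.symm, hb1.symm, hne.symm⟩
  have hcard : Fintype.card K ≤ 4 := by rwa [Nat.card_eq_fintype_card] at hc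
  have hSu : S = Finset.univ :=
    Finset.eq_univ_of_card S (le_antisymm (Finset.card_le_univ S) (by rw [hS]; exact hcard))
  have hall : ∀ x : K, x = 1 ∨ x = a ∨ x = b ∨ x = a * b := by
    intro x
    have hx : x ∈ S := by rw [hSu]; exact Finset.mem_univ x
    simpa [S] using hx
  have hsq : ∀ x : K, x ^ 2 = 1 := by
    intro x
    rw [pow_two]
    rcases hall x with rfl | rfl | rfl | rfl
    · exact one_mul 1
    · exact ha
    · exact hb
    · calc a * b * (a * b) = a * (b * a) * b := by group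
        _ = a * (a * b) * b := by rw [hab]
        _ = (a * a) * (b * b) := by group
        _ = 1 := by rw [ha, hb, one_mul]
  refine ⟨?_, ?_⟩
  · rw [Nat.card_eq_fintype_card, ← Finset.card_univ, ← hSu, hS]
  · have hd : Monoid.exponent K ∣ 2 := Monoid.exponent_dvd_of_forall_pow_eq_one hsq
    rcases (Nat.dvd_prime Nat.prime_two).mp hd with h | h
    · exfalso
      have hsub : Subsingleton K := Monoid.exp_eq_one_iff.mp h
      exact ha1 (Subsingleton.elim _ _)
    · exact h

theorem ker_klein : IsKleinFour sig.ker := by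
  refine isKleinFour_of_card_le card_ker_le ⟨za, za_ker⟩ ⟨zb, zb_ker⟩ ?_ ?_ ?_ ?_ ?_ ?_
  · exact Subtype.ext za_sq
  · exact Subtype.ext zb_sq
  · apply Subtype.ext
    show za * zb = zb * za
    exact ((Subgroup.mem_center_iff.1 za_cen) zb).symm
  · intro h
    exact za_ne (congrArg Subtype.val h)
  · intro h
    exact zb_ne (congrArg Subtype.val h)
  · intro h
    exact zab_ne (congrArg Subtype.val h)

theorem ker_le_center : sig.ker ≤ Subgroup.center Gam := by
  classical
  intro x hx
  -- the kernel is {1, za, zb, za * zb}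
  have hk := ker_klein
  have hfour : Nat.card sig.ker = 4 := hk.card_four
  have : Fintype sig.ker := Fintype.ofFinite _
  let a : sig.ker := ⟨za, za_ker⟩
  let b : sig.ker := ⟨zb, zb_ker⟩
  have ha1 : a ≠ 1 := fun h => za_ne (congrArg Subtype.val h)
  have hb1 : b ≠ 1 := fun h => zb_ne (congrArg Subtype.val h)
  have hab1 : a * b ≠ 1 := fun h => zab_ne (congrArg Subtype.val h)
  have hb : b * b = 1 := Subtype.ext zb_sq
  have e1 : a * b ≠ b := fun h => ha1 (mul_eq_right.mp h)
  have e2 : a * b ≠ a := fun h => hb1 (mul_eq_left.mp h)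
  have e0 : a ≠ b := fun h => hab1 (by rw [h, hb])
  let S : Finset sig.ker := {1, a, b, a * b}
  have hS : S.card = 4 := by
    rw [Finset.card_insert_of_notMem, Finset.card_insert_of_notMem,
      Finset.card_insert_of_notMem, Finset.card_singleton]
    · simp only [Finset.mem_singleton]; exact e1.symm
    · simp only [Finset.mem_insert, Finset.mem_singleton, not_or]
      exact ⟨e0, e2.symm⟩
    · simp only [Finset.mem_insert, Finset.mem_singleton, not_or]
      exact ⟨ha1.symm, hb1.symm, hab1.symm⟩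
  have hSu : S = Finset.univ :=
    Finset.eq_univ_of_card S (by rw [hS, ← Nat.card_eq_fintype_card, hfour])
  have hx' : (⟨x, hx⟩ : sig.ker) ∈ S := by rw [hSu]; exact Finset.mem_univ _
  simp only [S, Finset.mem_insert, Finset.mem_singleton] at hx'
  rcases hx' with h | h | h | h
  · have : x = 1 := congrArg Subtype.val h
    rw [this]; exact (Subgroup.center Gam).one_mem
  · have : x = za := congrArg Subtype.val h
    rw [this]; exact za_cen
  · have : x = zb := congrArg Subtype.val h
    rw [this]; exact zb_cen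
  · have : x = za * zb := congrArg Subtype.val h
    rw [this]; exact (Subgroup.center Gam).mul_mem za_cen zb_cen

/-- **The Schur multiplier of the concrete `Ω₈⁺(2)` is `Z/2 × Z/2`.** -/
theorem main0 : Cfsg.HasSchurMultiplier G0 (Multiplicative (ZMod 2 × ZMod 2)) := by
  have hk := ker_klein
  have e : sig.ker ≃* Multiplicative (ZMod 2 × ZMod 2) :=
    (IsKleinFour.nonempty_mulEquiv (G₁ := sig.ker)
      (G₂ := Multiplicative (ZMod 2 × ZMod 2))).some
  refine Cfsg.Agent.Lib.Helper92.Sz8.hasMult_of_model 24883200 4 (by norm_num) hexp 7 g ord g_pow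
    ord_coprime closure_g srelsAll hvalid ?_ Gam sig tau' sig_tau' tau'_pow tau'_rel tau'_gen
    (le_of_eq hk.card_four.symm) e ker_le_center tau'_perf
  intro L _ _ t ht hs
  rw [card_G0]
  exact hbound L t ht hs

universe u

/-- **The Schur multiplier of `PΩ₈⁺(F)`, `|F| = 2`, is `Z/2 × Z/2`.** -/
theorem main {F : Type u} [Field F] [Fintype F] (hF : Fintype.card F = 2) :
    Cfsg.HasSchurMultiplier (Cfsg.POmega F (Cfsg.quadFormPlus 4 F))
      (Multiplicative (ZMod 2 × ZMod 2)) :=
  Cfsg.Agent.Lib.Helper89.MultTransfer.hasSchurMultiplier_of_mulEquiv (equivG0 hF) main0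

end Cfsg.Agent.Lib.Helper30.O8
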