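import Cfsg.Agent.Lib.Helper72.O8G
import Cfsg.Agent.Lib.Helper30.O8.L2Rels
import Cfsg.Agent.Lib.Helper30.O8.L3Rels
import Cfsg.Agent.Lib.Helper30.O8.L4Rels
import Cfsg.Agent.Lib.Helper30.O8.L5Rels
import Cfsg.Agent.Lib.Helper30.O8.Rels

/-! # S2098: the safe relators and the central words hold in the concrete `Ω₈⁺(2)` -/

set_option autoImplicit false
set_option maxRecDepth 1000000
set_option maxHeartbeats 0

namespace Cfsg.Agent.Lib.Helper30.O8

open Cfsg.Agent.Lib.Helper89.CosetCert Cfsg.Agent.Lib.Helper89.SafePres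
open Cfsg.Agent.Lib.Helper72.O8

theorem vg_L2_0 : relsOK (L2.srels0.map SRel.word) = true := by decide +kernel

theorem hvalid_L2 : ∀ r ∈ L2.srels, ev g r.word = 1 := by
  intro r hr
  exact relsOK_valid _ vg_L2_0 _ (List.mem_map_of_mem (L2.mem_srels hr))

theorem vg_L3_0 : relsOK (L3.srels0.map SRel.word) = true := by decide +kernel

theorem vg_L3_1 : relsOK (L3.srels1.map SRel.word) = true := by decide +kernel

theorem hvalid_L3 : ∀ r ∈ L3.srels, ev g r.word = 1 := by
  intro r hr
  rcases L3.mem_srels hr with h | h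
  · exact relsOK_valid _ vg_L3_0 _ (List.mem_map_of_mem h)
  · exact relsOK_valid _ vg_L3_1 _ (List.mem_map_of_mem h)

theorem vg_L4_0 : relsOK (L4.srels0.map SRel.word) = true := by decide +kernel

theorem vg_L4_1 : relsOK (L4.srels1.map SRel.word) = true := by decide +kernel

theorem vg_L4_2 : relsOK (L4.srels2.map SRel.word) = true := by decide +kernel

theorem vg_L4_3 : relsOK (L4.srels3.map SRel.word) = true := by decide +kernel

theorem vg_L4_4 : relsOK (L4.srels4.map SRel.word) = true := by decide +kernel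

theorem hvalid_L4 : ∀ r ∈ L4.srels, ev g r.word = 1 := by
  intro r hr
  rcases L4.mem_srels hr with h | h | h | h | h
  · exact relsOK_valid _ vg_L4_0 _ (List.mem_map_of_mem h)
  · exact relsOK_valid _ vg_L4_1 _ (List.mem_map_of_mem h)
  · exact relsOK_valid _ vg_L4_2 _ (List.mem_map_of_mem h)
  · exact relsOK_valid _ vg_L4_3 _ (List.mem_map_of_mem h)
  · exact relsOK_valid _ vg_L4_4 _ (List.mem_map_of_mem h)

theorem vg_L5_0 : relsOK (L5.srels0.map SRel.word) = true := by decide +kernel

theorem vg_L5_1 : relsOK (L5.srels1.map SRel.word) = true := by decide +kernel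

theorem vg_L5_2 : relsOK (L5.srels2.map SRel.word) = true := by decide +kernel

theorem vg_L5_3 : relsOK (L5.srels3.map SRel.word) = true := by decide +kernel

theorem vg_L5_4 : relsOK (L5.srels4.map SRel.word) = true := by decide +kernel

theorem vg_L5_5 : relsOK (L5.srels5.map SRel.word) = true := by decide +kernel

theorem vg_L5_6 : relsOK (L5.srels6.map SRel.word) = true := by decide +kernel

theorem vg_L5_7 : relsOK (L5.srels7.map SRel.word) = true := by decide +kernel

theorem vg_L5_8 : relsOK (L5.srels8.map SRel.word) = true := by decide +kernel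

theorem vg_L5_9 : relsOK (L5.srels9.map SRel.word) = true := by decide +kernel

theorem hvalid_L5 : ∀ r ∈ L5.srels, ev g r.word = 1 := by
  intro r hr
  rcases L5.mem_srels hr with h | h | h | h | h | h | h | h | h | h
  · exact relsOK_valid _ vg_L5_0 _ (List.mem_map_of_mem h)
  · exact relsOK_valid _ vg_L5_1 _ (List.mem_map_of_mem h)
  · exact relsOK_valid _ vg_L5_2 _ (List.mem_map_of_mem h)
  · exact relsOK_valid _ vg_L5_3 _ (List.mem_map_of_mem h)
  · exact relsOK_valid _ vg_L5_4 _ (List.mem_map_of_mem h)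
  · exact relsOK_valid _ vg_L5_5 _ (List.mem_map_of_mem h)
  · exact relsOK_valid _ vg_L5_6 _ (List.mem_map_of_mem h)
  · exact relsOK_valid _ vg_L5_7 _ (List.mem_map_of_mem h)
  · exact relsOK_valid _ vg_L5_8 _ (List.mem_map_of_mem h)
  · exact relsOK_valid _ vg_L5_9 _ (List.mem_map_of_mem h)

theorem hvalid : ∀ r ∈ srelsAll, ev g r.word = 1 := by
  intro r hr
  unfold srelsAll at hr
  rw [List.mem_append, List.mem_append, List.mem_append] at hr
  rcases hr with ((h | h) | h) | h
  · exact hvalid_L2 r h
  · exact hvalid_L3 r h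
  · exact hvalid_L4 r h
  · exact hvalid_L5 r h

theorem vg_z : relsOK [wza, wzb] = true := by decide +kernel

theorem za_g : ev g wza = 1 := relsOK_valid _ vg_z _ (by simp)

theorem zb_g : ev g wzb = 1 := relsOK_valid _ vg_z _ (by simp)

end Cfsg.Agent.Lib.Helper30.O8
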